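import Groth.Agent.RatSing.K870.SectTr

/-!
# The trace is an isomorphism under Grauert–Riemenschneider vanishing

`f : X ⟶ Y` proper, an isomorphism over an open `V` with dense preimage, `X` Cohen–Macaulay, `K` a dualizing
complex on `Y` concentrated in one degree `c`, `ω_X = H^c(f^! K)`.  If `R^p f_* ω_X = 0` for `p > 0` and
`f_* ω_X ⟶ ω_Y` is an epimorphism, the trace `Rf_* f^! K ⟶ K` is an isomorphism.
-/

set_option autoImplicit false

universe u

open CategoryTheory Category Limits AlgebraicGeometry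

attribute [local instance] HasDerivedCategory.standard

namespace K289.GRCore

open DCoh Groth.Agent K870

variable {X Y : Scheme.{u}}

section Main

variable (f : X ⟶ Y) [IsProper f] [IsNoetherian Y]
  [∀ (U : Scheme.{u}) (j : U ⟶ Y) [IsOpenImmersion j],
    PreservesFiniteLimits (Scheme.Modules.restrictFunctor j)]
  [∀ (R : CommRingCat.{u}), PreservesFiniteLimits (tilde.functor R)]
  [HasRpush f] (h : RpushPreservesQCoh f) {a : DQCoh Y ⥤ DQCoh X} (adj : RpushQ f h ⊣ a)

include adj in
/-- `f^! K` is concentrated in the degree of `K` (`X` Cohen–Macaulay, `f` an isomorphism over `V` with dense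
preimage). -/
theorem isZero_HD (hcm : ∀ x : X, LocCoh.IsCohenMacaulayLocalRing (X.presheaf.stalk x))
    (V : Y.Opens) (hV : Dense ((f ⁻¹ᵁ V : X.Opens) : Set X)) [IsIso (f ∣_ V)]
    (K : DQCoh Y) (hK : Dual2.IsDualizingSch Y K.obj) (c : ℤ)
    (hKc : ∀ i : ℤ, i ≠ c → IsZero (HD K.obj i)) :
    ∀ i : ℤ, i ≠ c → IsZero (HD (a.obj K).obj i) := by
  have : IsLocallyNoetherian X := LocallyOfFiniteType.isLocallyNoetherian f
  have hge : K.obj.IsGE c := by
    rw [DerivedCategory.isGE_iff]
    exact fun i hi => hKc i hi.ne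
  let L : DQCoh X := a.obj K
  let τ : (Rpush f).obj L.obj ⟶ K.obj := (adj.counit.app K).hom
  have hτ : IsIso ((PerfA.Restrict.restrictD V.ι).map τ) :=
    TraceOpen.isIso_restrictD_trace f h adj K c hge V
  have hτi : ∀ i : ℤ, IsIso ((Scheme.Modules.restrictFunctor V.ι).map
      ((DerivedCategory.homologyFunctor Y.Modules i).map τ)) := by
    intro i
    exact (NatIso.isIso_map_iff
      (PerfA.ExactD.mapHomology (Scheme.Modules.restrictFunctor V.ι) i) τ).1
      (inferInstanceAs (IsIso ((DerivedCategory.homologyFunctor _ i).map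
        ((PerfA.Restrict.restrictD V.ι).map τ))))
  have hL : Dual2.IsDualizingSch X L.obj := S1810.result X Y f h a adj K hK
  refine DualDeg.isZero_HD_of_dense X L.obj hL hcm (f ⁻¹ᵁ V) hV c ?_
  intro i hi x hx
  obtain ⟨e⟩ := DualDeg.nonempty_stalk_iso f V L.obj i x hx
  have h1 : IsZero ((Scheme.Modules.restrictFunctor V.ι).obj (HD ((Rpush f).obj L.obj) i)) := by
    have := hτi i
    refine IsZero.of_iso ?_ (asIso ((Scheme.Modules.restrictFunctor V.ι).map
      ((DerivedCategory.homologyFunctor Y.Modules i).map τ)))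
    exact Functor.map_isZero _ (hKc i hi)
  have h2 := Dcoh.StalkMod.subsingleton_of_isZero h1 ⟨f x, hx⟩
  have h3 := ((PerfA.Restrict.stalkRestrict V.ι ⟨f x, hx⟩).app
    (HD ((Rpush f).obj L.obj) i)).symm.addCommGroupIsoToAddEquiv.toEquiv
  have h4 : Subsingleton ((HD ((Rpush f).obj L.obj) i).presheaf.stalk (f x)) :=
    @Equiv.subsingleton _ _ h3 h2
  exact e.symm.toEquiv.subsingleton

include adj in
/-- `f_* ω_X ⟶ ω_Y` is a monomorphism. -/
theorem mono_homology_trace (hcm : ∀ x : X, LocCoh.IsCohenMacaulayLocalRing (X.presheaf.stalk x))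
    (V : Y.Opens) (hV : Dense ((f ⁻¹ᵁ V : X.Opens) : Set X)) [IsIso (f ∣_ V)]
    (K : DQCoh Y) (hK : Dual2.IsDualizingSch Y K.obj) (c : ℤ)
    (hKc : ∀ i : ℤ, i ≠ c → IsZero (HD K.obj i)) :
    Mono ((DerivedCategory.homologyFunctor Y.Modules c).map (adj.counit.app K).hom) := by
  have : IsLocallyNoetherian X := LocallyOfFiniteType.isLocallyNoetherian f
  have hge : K.obj.IsGE c := by
    rw [DerivedCategory.isGE_iff]
    exact fun i hi => hKc i hi.ne
  have hL : Dual2.IsDualizingSch X (a.obj K).obj := S1810.result X Y f h a adj K hK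
  have hLc := isZero_HD f h adj hcm V hV K hK c hKc
  have hτ : IsIso ((PerfA.Restrict.restrictD V.ι).map (adj.counit.app K).hom) :=
    TraceOpen.isIso_restrictD_trace f h adj K c hge V
  have hτc : IsIso ((Scheme.Modules.restrictFunctor V.ι).map
      ((DerivedCategory.homologyFunctor Y.Modules c).map (adj.counit.app K).hom)) :=
    (NatIso.isIso_map_iff
      (PerfA.ExactD.mapHomology (Scheme.Modules.restrictFunctor V.ι) c) (adj.counit.app K).hom).1
      (inferInstanceAs (IsIso ((DerivedCategory.homologyFunctor _ c).map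
        ((PerfA.Restrict.restrictD V.ι).map (adj.counit.app K).hom))))
  obtain ⟨e⟩ := SectTr.nonempty_iso_push f (a.obj K).obj c hLc
  exact SectTr.mono_of_dense _ V hτc (SectTr.restrict_injective_of_push f e V
    (fun W => DualDepth.restrict_injective hL c hLc (f ⁻¹ᵁ V) hV W))

include adj in
/-- **Kempf's criterion with Grauert–Riemenschneider vanishing as hypothesis.** -/
theorem isIso_trace (hcm : ∀ x : X, LocCoh.IsCohenMacaulayLocalRing (X.presheaf.stalk x))
    (V : Y.Opens) (hV : Dense ((f ⁻¹ᵁ V : X.Opens) : Set X)) [IsIso (f ∣_ V)]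
    (K : DQCoh Y) (hK : Dual2.IsDualizingSch Y K.obj) (c : ℤ)
    (hKc : ∀ i : ℤ, i ≠ c → IsZero (HD K.obj i))
    (hGR : ∀ p : ℕ, 0 < p → IsZero ((Coh.Rpush f p).obj (HD (a.obj K).obj c)))
    (hsurj : Epi ((DerivedCategory.homologyFunctor Y.Modules c).map (adj.counit.app K).hom)) :
    IsIso (adj.counit.app K).hom := by
  have : IsLocallyNoetherian X := LocallyOfFiniteType.isLocallyNoetherian f
  have := PerfC.RpushTrunc.enoughInjectives X
  have : HasInjectiveResolutions X.Modules := inferInstance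
  let L : DQCoh X := a.obj K
  let τ : (Rpush f).obj L.obj ⟶ K.obj := (adj.counit.app K).hom
  have hLc := isZero_HD f h adj hcm V hV K hK c hKc
  have hLge : L.obj.IsGE c := by
    rw [DerivedCategory.isGE_iff]
    exact fun i hi => hLc i hi.ne
  have hLle : L.obj.IsLE c := by
    rw [DerivedCategory.isLE_iff]
    exact fun i hi => hLc i hi.ne'
  obtain ⟨eL⟩ := LoccohB.DCalc.exists_iso_single L.obj c
  have hR : ∀ i : ℤ, i ≠ c → IsZero (HD ((Rpush f).obj L.obj) i) := by
    intro i hi
    have e : HD ((Rpush f).obj L.obj) i ≅ HD ((Rpush f).obj (inD X (HD L.obj c))) (i - c) :=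
      (DerivedCategory.homologyFunctor Y.Modules i).mapIso ((Rpush f).mapIso eL) ≪≫
        PerfC.RpushSingle.isoSingle f (HD L.obj c) c i (i - c) (by ring)
    refine IsZero.of_iso ?_ e
    rcases lt_or_gt_of_ne (show i - c ≠ 0 by omega) with hlt | hgt
    · exact PerfC.RpushSingle.isZero_of_neg f _ _ hlt
    · obtain ⟨p, hp⟩ := Int.eq_ofNat_of_zero_le hgt.le
      rw [hp]
      exact (hGR p (by omega)).of_iso (PerfC.RpushSingle.iso f p _)
  have hmono := mono_homology_trace f h adj hcm V hV K hK c hKc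
  change IsIso τ
  rw [DerivedCategory.isIso_iff]
  intro i
  by_cases hi : i = c
  · subst hi
    have := hmono
    have := hsurj
    exact isIso_of_mono_of_epi _
  · exact IsZero.isIso (hR i hi) (hKc i hi) _

end Main

end K289.GRCore
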