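import Groth.Prelude.Def_RelProj
import Groth.Agent.RatSing.K289.GRCore
import Groth.Agent.RatSing.K870.EtaDual
import Groth.Agent.RatSing.K870.Eta
import Groth.Agent.RatSing.K870.EtaIff

/-!
# From the trace to the unit: the two ends of the criterion

* `isProper_of_locally`: a locally (on the target) H-projective morphism is proper;
* `exists_section_trace`: a splitting of `O_Y ⟶ Rf_* O_X` gives a section of every trace `Rf_* f^! K ⟶ K`;
* `concl`: if the trace of a dualizing complex is an isomorphism, `f` is a cohomological equivalence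
  (the direction of S15709 that needs neither birationality nor pure dimension).
-/

set_option autoImplicit false

universe u

open CategoryTheory Category Limits AlgebraicGeometry

attribute [local instance] HasDerivedCategory.standard

namespace K289.GRConcl

open DCoh Groth.Agent K870

variable {X Y : Scheme.{u}}

/-- Locally on the target H-projective ⟹ proper. -/
theorem isProper_of_locally (f : X ⟶ Y)
    (hproj : ∀ y : Y, ∃ U : Y.Opens, y ∈ U ∧ RelProj.IsHProjective (f ∣_ U)) : IsProper f := by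
  choose U hyU hU using hproj
  have hcov : iSup U = ⊤ := by
    rw [eq_top_iff]
    intro y _
    exact TopologicalSpace.Opens.mem_iSup.2 ⟨y, hyU y⟩
  refine (IsZariskiLocalAtTarget.iff_of_iSup_eq_top (P := @IsProper) U hcov).2 fun y => ?_
  obtain ⟨n, i, hi, h⟩ := hU y
  rw [← h]
  infer_instance

variable (f : X ⟶ Y)

/-- A splitting of `O_Y ⟶ Rf_* O_X` up to automorphism gives a section of the trace. -/
theorem exists_section_trace [IsNoetherian Y] [IsProper f]
    [DCoh.HasRpush f] (h : DCoh.RpushPreservesQCoh f) [DCoh.HasShriek f h]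
    [DCoh.HasLpull f] (hL : Dual3.LpullPreservesQCoh f)
    (adjL : Dual3.LpullQ f hL ⊣ DCoh.RpushQ f h) (K : DCoh.DQCoh Y)
    (OY : DCoh.DQCoh Y) (eY : OY.obj ≅ DCoh.inD Y (Coh.structureModule Y))
    (OX : DCoh.DQCoh X) (eX : OX.obj ≅ DCoh.inD X (Coh.structureModule X))
    (e : (Dual3.LpullQ f hL).obj OY ≅ OX)
    (hsplit : ∃ η' : (DCoh.RpushQ f h).obj OX ⟶ OY,
      IsIso (adjL.unit.app OY ≫ (DCoh.RpushQ f h).map e.hom ≫ η')) :
    ∃ s : K.obj ⟶ (DCoh.Rpush f).obj ((DCoh.shriek f h).obj K).obj,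
      s ≫ (ObjectProperty.ι DCoh.IsQCohD).map ((DCoh.trace f h).app K) = 𝟙 _ := by
  obtain ⟨e', he'⟩ := K870.Eta.exists_eta_eq f hL h adjL OY OX e
  obtain ⟨η', hη'⟩ := hsplit
  have hi : IsIso ((adjL.unit.app OY ≫ (DCoh.RpushQ f h).map e.hom).hom ≫ η'.hom) := by
    have h1 : IsIso ((ObjectProperty.ι DCoh.IsQCohD).map
      (adjL.unit.app OY ≫ (DCoh.RpushQ f h).map e.hom ≫ η')) := inferInstance
    rw [← Category.assoc, Functor.map_comp] at h1
    exact h1
  obtain ⟨r, hr⟩ := K870.Eta.exists_retraction f eY eX OX.property e' _ he' η'.hom hi K.obj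
    K.property
  obtain ⟨s, hs⟩ := K870.Eta.exists_section_trace f K.property
    (Groth.Agent.Ega1.ADualUniv.isUniv_of_adj (h := h) (DCoh.shriekAdj f h) K) r hr
  exact ⟨s, hs⟩

/-- If the trace of a dualizing complex is an isomorphism, then `O_Y ⟶ f_* O_X` is an isomorphism and
the higher direct images of `O_X` vanish. -/
theorem concl [IsLocallyNoetherian X] [IsNoetherian Y]
    [∀ (U : Scheme.{u}) (j : U ⟶ Y) [IsOpenImmersion j],
      PreservesFiniteLimits (Scheme.Modules.restrictFunctor j)]
    [∀ (R : CommRingCat.{u}), PreservesFiniteLimits (tilde.functor R)]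
    [IsProper f] [DCoh.HasRpush f] (h : DCoh.RpushPreservesQCoh f) [DCoh.HasShriek f h]
    (K : DCoh.DQCoh Y) (hK : Dual2.IsDualizingSch Y K.obj) [HasInjectiveResolutions X.Modules]
    (hτ : IsIso ((ObjectProperty.ι DCoh.IsQCohD).map ((DCoh.trace f h).app K))) :
    IsIso (ClSub.unitToPush f) ∧
      ∀ p : ℕ, 0 < p → IsZero ((Coh.Rpush f p).obj (Coh.structureModule X)) := by
  have hL : DCoh.HasLpull f := Groth.Agent.Dcoh.DerPull.hasLpull f
  have hu := Groth.Agent.Ega1.ADualUniv.isUniv_of_adj (h := h) (DCoh.shriekAdj f h) K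
  rw [← K870.EtaIff.isIso_eta_iff f]
  have h1 := (K870.EtaIff.bijective_unit_iff f K.property hu).2 hτ
  have hXN : IsNoetherian X := by
    have : CompactSpace X := QuasiCompact.compactSpace_of_compactSpace f
    constructor
  have hcO : DCoh.IsCohD (DCoh.inD X (Coh.structureModule X)) :=
    Groth.Agent.PerfA.QCohD.isCohD_inD _ (Groth.Agent.Fdesc.StructMod.isCoh_structureModule _)
  have hcY : DCoh.IsCohD (DCoh.inD Y (Coh.structureModule Y)) :=
    Groth.Agent.PerfA.QCohD.isCohD_inD _ (Groth.Agent.Fdesc.StructMod.isCoh_structureModule _)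
  have hR : DCoh.IsCohD ((DCoh.Rpush f).obj (DCoh.inD X (Coh.structureModule X))) :=
    (Groth.Agent.S1001.result f (DCoh.inD X (Coh.structureModule X)) 0 0 hcO
      (fun i => ⟨Groth.Agent.Ega3B.Devissage.isClosed_support (hcO i), inferInstance⟩)).1
  exact K870.EtaDual.isIso_of_bijective hK hcY hR (K870.EtaIff.eta f) fun N hN =>
    K870.EtaIff.bijective_tens f N hN (h1 N hN)

end K289.GRConcl
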