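import Groth.Agent.RatSing.K289.GRLocal
import Groth.Agent.RatSing.K289.GRConcl

/-!
# Grauert–Riemenschneider vanishing is necessary

If the trace `Rf_* f^! K ⟶ K` is an isomorphism (`K` dualizing on `Y`, `X` and `Y` Cohen–Macaulay, `f` proper and an
isomorphism over an open with dense preimage), then `R^p f_*` of every cohomology sheaf of `f^! K` vanishes for `p > 0`.
So the hypothesis `hGR` of the restated rows S15710, S15711, S15718 is implied by their conclusions.
-/

set_option autoImplicit false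

universe u

open CategoryTheory Category Limits AlgebraicGeometry

attribute [local instance] HasDerivedCategory.standard

namespace K289.GRConv

open DCoh hiding restrictD
open Groth.Agent K870
open Groth.Agent.PerfA.Restrict (restrictD HDrestrict stalkAb stalkRestrict)

variable {X Y : Scheme.{u}} (f : X ⟶ Y) [IsProper f] [IsNoetherian Y]
  [∀ (U : Scheme.{u}) (j : U ⟶ Y) [IsOpenImmersion j],
    PreservesFiniteLimits (Scheme.Modules.restrictFunctor j)]
  [∀ (R : CommRingCat.{u}), PreservesFiniteLimits (tilde.functor R)]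
  [HasRpush f] (h : RpushPreservesQCoh f) {a : DQCoh Y ⥤ DQCoh X} (adj : RpushQ f h ⊣ a)

include adj in
/-- **The vanishing is necessary.** -/
theorem isZero_Rpush_of_isIso_trace [HasInjectiveResolutions X.Modules]
    (hcmX : ∀ x : X, LocCoh.IsCohenMacaulayLocalRing (X.presheaf.stalk x))
    (hcmY : ∀ y : Y, LocCoh.IsCohenMacaulayLocalRing (Y.presheaf.stalk y))
    (V : Y.Opens) (hV : Dense ((f ⁻¹ᵁ V : X.Opens) : Set X)) [IsIso (f ∣_ V)]
    (K : DQCoh Y) (hK : Dual2.IsDualizingSch Y K.obj) (hτ : IsIso (adj.counit.app K).hom)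
    (i : ℤ) (p : ℕ) (hp : 0 < p) : IsZero ((Coh.Rpush f p).obj (HD (a.obj K).obj i)) := by
  have : IsLocallyNoetherian X := LocallyOfFiniteType.isLocallyNoetherian f
  let L : D X := (a.obj K).obj
  let τ : (Rpush f).obj L ⟶ K.obj := (adj.counit.app K).hom
  have hL : Dual2.IsDualizingSch X L := S1810.result X Y f h a adj K hK
  have hτ' : IsIso τ := hτ
  refine PerfA.Restrict.isZero_of_restrict_opens _ fun y => ?_
  obtain ⟨U, c, hyU, hU⟩ := GRLocal.exists_open hK hcmY y
  refine ⟨U, hyU, ?_⟩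
  have hg : HasRpush (f ∣_ U) := Dcoh.DerSch.hasRpush _
  obtain ⟨β⟩ := Dcoh.DerSch.exists_rpushRestrictIso f (f ∣_ U) (f ⁻¹ᵁ U).ι U.ι
    (isPullback_morphismRestrict f U).flip
  let L' : D (f ⁻¹ᵁ U : Scheme.{u}) := (restrictD (f ⁻¹ᵁ U).ι).obj L
  have := PerfC.RpushTrunc.enoughInjectives (f ⁻¹ᵁ U : Scheme.{u})
  have : HasInjectiveResolutions (f ⁻¹ᵁ U : Scheme.{u}).Modules := inferInstance
  -- stalks of `H^i(L)` over `U`
  have hstL : ∀ i : ℤ, i ≠ c → ∀ x : X, f x ∈ U → Subsingleton ((HD L i).presheaf.stalk x) := by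
    intro i hi x hx
    refine GRLocal.subsingleton_of_dense hL hcmX (f ⁻¹ᵁ V) hV c x ?_ i hi
    intro i hi ξ hξ hξx
    have hfU : f ξ ∈ U := (hξx.map f.continuous).mem_open U.2 hx
    obtain ⟨e⟩ := DualDeg.nonempty_stalk_iso f V L i ξ hξ
    have h1 := hU i hi (f ξ) hfU
    have h2 := asIso ((DerivedCategory.homologyFunctor Y.Modules i).map τ)
    have h5 := ((stalkAb (f ξ)).mapIso h2).addCommGroupIsoToAddEquiv.toEquiv
    have h6 : Subsingleton ((HD ((Rpush f).obj L) i).presheaf.stalk (f ξ)) :=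
      @Equiv.subsingleton _ _ h5 h1
    exact e.symm.toEquiv.subsingleton
  have hL'c : ∀ i : ℤ, i ≠ c → IsZero (HD L' i) := by
    intro i hi
    refine IsZero.of_iso ?_ (HDrestrict (f ⁻¹ᵁ U).ι L i)
    refine Dcoh.StalkMod.isZero_of_subsingleton _ fun x => ?_
    have h1 := hstL i hi x.1 x.2
    have h2 := ((stalkRestrict (f ⁻¹ᵁ U).ι x).app (HD L i)).addCommGroupIsoToAddEquiv.toEquiv
    exact @Equiv.subsingleton _ _ h2 h1
  have hK'c : ∀ i : ℤ, i ≠ c → IsZero (HD ((restrictD U.ι).obj K.obj) i) := by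
    intro i hi
    refine IsZero.of_iso ?_ (HDrestrict U.ι K.obj i)
    refine Dcoh.StalkMod.isZero_of_subsingleton _ fun x => ?_
    have h1 := hU i hi x.1 x.2
    have h2 := ((stalkRestrict U.ι x).app (HD K.obj i)).addCommGroupIsoToAddEquiv.toEquiv
    exact @Equiv.subsingleton _ _ h2 h1
  -- reduction to `R^p (f|_U)_* H^i(L')`
  refine IsZero.of_iso ?_ (CohqA.RpushLoc.rpushResOpen f U p (HD L i))
  refine IsZero.of_iso ?_ ((Coh.Rpush (f ∣_ U) p).mapIso (HDrestrict (f ⁻¹ᵁ U).ι L i)).symm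
  change IsZero ((Coh.Rpush (f ∣_ U) p).obj (HD L' i))
  by_cases hi : i = c
  · subst hi
    have hL'ge : L'.IsGE i := by
      rw [DerivedCategory.isGE_iff]
      exact fun j hj => hL'c j hj.ne
    have hL'le : L'.IsLE i := by
      rw [DerivedCategory.isLE_iff]
      exact fun j hj => hL'c j hj.ne'
    obtain ⟨eL⟩ := LoccohB.DCalc.exists_iso_single L' i
    have e1 : HD ((Rpush (f ∣_ U)).obj L') (i + p) ≅ HD ((Rpush (f ∣_ U)).obj (inD _ (HD L' i))) p :=
      (DerivedCategory.homologyFunctor _ (i + p)).mapIso ((Rpush (f ∣_ U)).mapIso eL) ≪≫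
        PerfC.RpushSingle.isoSingle (f ∣_ U) (HD L' i) i (i + p) p (by ring)
    have e2 : HD ((Rpush (f ∣_ U)).obj L') (i + p) ≅ HD ((restrictD U.ι).obj K.obj) (i + p) :=
      (DerivedCategory.homologyFunctor _ (i + p)).mapIso
        ((β.app L).symm ≪≫ (restrictD U.ι).mapIso (asIso τ))
    have h1 : IsZero (HD ((restrictD U.ι).obj K.obj) (i + p)) := hK'c _ (by omega)
    exact ((h1.of_iso e2).of_iso e1.symm).of_iso (PerfC.RpushSingle.iso (f ∣_ U) p _).symm
  · exact Functor.map_isZero _ (hL'c i hi)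

/-- If `f` is a cohomological equivalence, then the vanishing holds (the other end of the criterion). -/
theorem isZero_Rpush_of_cohEquiv [DCoh.HasShriek f h] [HasInjectiveResolutions X.Modules]
    (hcmX : ∀ x : X, LocCoh.IsCohenMacaulayLocalRing (X.presheaf.stalk x))
    (hcmY : ∀ y : Y, LocCoh.IsCohenMacaulayLocalRing (Y.presheaf.stalk y))
    (V : Y.Opens) (hV : Dense ((f ⁻¹ᵁ V : X.Opens) : Set X)) [IsIso (f ∣_ V)]
    (K : DQCoh Y) (hK : Dual2.IsDualizingSch Y K.obj) (h0 : IsIso (ClSub.unitToPush f))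
    (h1 : ∀ p : ℕ, 0 < p → IsZero ((Coh.Rpush f p).obj (Coh.structureModule X)))
    (i : ℤ) (p : ℕ) (hp : 0 < p) :
    IsZero ((Coh.Rpush f p).obj (HD ((DCoh.shriek f h).obj K).obj i)) := by
  have hL : DCoh.HasLpull f := Groth.Agent.Dcoh.DerPull.hasLpull f
  have : IsLocallyNoetherian X := LocallyOfFiniteType.isLocallyNoetherian f
  have hu := Groth.Agent.Ega1.ADualUniv.isUniv_of_adj (h := h) (DCoh.shriekAdj f h) K
  have hη := (K870.EtaIff.isIso_eta_iff f).2 ⟨h0, h1⟩
  exact isZero_Rpush_of_isIso_trace f h (DCoh.shriekAdj f h) hcmX hcmY V hV K hK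
    (K870.EtaIff.isIso_trace f hη K.property hu) i p hp

end K289.GRConv
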