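import Groth.Agent.RatSing.K289.GRCore
import Groth.Agent.CohqA.RpushLoc
import Groth.Agent.Dual.H364.DualUniq

/-!
# The criterion for a dualizing complex that need not be concentrated in one degree

On a Cohen–Macaulay scheme a dualizing complex is locally concentrated in one degree (the degree may depend on the
connected component).  We localize the criterion of `GRCore` on the target.
-/

set_option autoImplicit false

universe u

open CategoryTheory Category Limits AlgebraicGeometry

attribute [local instance] HasDerivedCategory.standard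

namespace K289.GRLocal

open DCoh hiding restrictD
open Groth.Agent K870
open Groth.Agent.PerfA.Restrict (restrictD HDrestrict stalkAb stalkRestrict)

variable {X Y : Scheme.{u}}

/-- The criterion for a morphism `τ : Rf_* L ⟶ K`, with `L` dualizing. -/
theorem isIso_of_concentrated [IsLocallyNoetherian X]
    [∀ (U : Scheme.{u}) (j : U ⟶ X) [IsOpenImmersion j],
      PreservesFiniteLimits (Scheme.Modules.restrictFunctor j)]
    [∀ (R : CommRingCat.{u}), PreservesFiniteLimits (tilde.functor R)]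
    [HasInjectiveResolutions X.Modules]
    (f : X ⟶ Y) [HasRpush f] {L : D X} (hL : Dual2.IsDualizingSch X L) {K : D Y} (c : ℤ)
    (hLc : ∀ i : ℤ, i ≠ c → IsZero (HD L i)) (hKc : ∀ i : ℤ, i ≠ c → IsZero (HD K i))
    (τ : (Rpush f).obj L ⟶ K) (V : Y.Opens) (hV : Dense ((f ⁻¹ᵁ V : X.Opens) : Set X))
    (hτ : IsIso ((Scheme.Modules.restrictFunctor V.ι).map
      ((DerivedCategory.homologyFunctor Y.Modules c).map τ)))
    (hGR : ∀ p : ℕ, 0 < p → IsZero ((Coh.Rpush f p).obj (HD L c)))
    (hsurj : Epi ((DerivedCategory.homologyFunctor Y.Modules c).map τ)) : IsIso τ := by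
  have := PerfC.RpushTrunc.enoughInjectives X
  have hLge : L.IsGE c := by
    rw [DerivedCategory.isGE_iff]
    exact fun i hi => hLc i hi.ne
  have hLle : L.IsLE c := by
    rw [DerivedCategory.isLE_iff]
    exact fun i hi => hLc i hi.ne'
  obtain ⟨eL⟩ := LoccohB.DCalc.exists_iso_single L c
  have hR : ∀ i : ℤ, i ≠ c → IsZero (HD ((Rpush f).obj L) i) := by
    intro i hi
    have e : HD ((Rpush f).obj L) i ≅ HD ((Rpush f).obj (inD X (HD L c))) (i - c) :=
      (DerivedCategory.homologyFunctor Y.Modules i).mapIso ((Rpush f).mapIso eL) ≪≫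
        PerfC.RpushSingle.isoSingle f (HD L c) c i (i - c) (by ring)
    refine IsZero.of_iso ?_ e
    rcases lt_or_gt_of_ne (show i - c ≠ 0 by omega) with hlt | hgt
    · exact PerfC.RpushSingle.isZero_of_neg f _ _ hlt
    · obtain ⟨p, hp⟩ := Int.eq_ofNat_of_zero_le hgt.le
      rw [hp]
      exact (hGR p (by omega)).of_iso (PerfC.RpushSingle.iso f p _)
  have hmono : Mono ((DerivedCategory.homologyFunctor Y.Modules c).map τ) := by
    obtain ⟨e⟩ := SectTr.nonempty_iso_push f L c hLc
    exact SectTr.mono_of_dense _ V hτ (SectTr.restrict_injective_of_push f e V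
      (fun W => DualDepth.restrict_injective hL c hLc (f ⁻¹ᵁ V) hV W))
  rw [DerivedCategory.isIso_iff]
  intro i
  by_cases hi : i = c
  · subst hi
    exact isIso_of_mono_of_epi _
  · exact IsZero.isIso (hR i hi) (hKc i hi) _

/-- The cohomology of a dualizing complex on a Cohen–Macaulay scheme is concentrated in one degree at a point if it
is so at the generizations lying in a dense open. -/
theorem subsingleton_of_dense [IsLocallyNoetherian X]
    [∀ (U : Scheme.{u}) (j : U ⟶ X) [IsOpenImmersion j],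
      PreservesFiniteLimits (Scheme.Modules.restrictFunctor j)]
    [∀ (R : CommRingCat.{u}), PreservesFiniteLimits (tilde.functor R)]
    {ω : D X} (hω : Dual2.IsDualizingSch X ω)
    (hcm : ∀ x : X, LocCoh.IsCohenMacaulayLocalRing (X.presheaf.stalk x))
    (V : X.Opens) (hV : Dense (V : Set X)) (n : ℤ) (x : X)
    (hVn : ∀ i : ℤ, i ≠ n → ∀ ξ ∈ V, ξ ⤳ x → Subsingleton ((HD ω i).presheaf.stalk ξ))
    (i : ℤ) (hi : i ≠ n) : Subsingleton ((HD ω i).presheaf.stalk x) := by
  have hcoh := Ega1.DualSchBdd.isCohD_of_isDualizingSch hω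
  obtain ⟨ξ, hξV, hξ⟩ := Sga4h.GeoDim.exists_mem_specializes_of_dense V hV x
  obtain ⟨j, hj, -⟩ := ((S1809.result X ω hω).1 ξ).1 (hcm ξ)
  have hjn : j = n := by
    by_contra hne
    have h1 := hVn j hne ξ hξV hξ
    exact (not_subsingleton_iff_nontrivial.2 hj) h1
  subst hjn
  have h2 : Nontrivial ((HD ω j).presheaf.stalk x) :=
    DualDeg.nontrivial_of_specializes (hcoh j) hξ hj
  obtain ⟨k, hk, huniq⟩ := ((S1809.result X ω hω).1 x).1 (hcm x)
  by_contra hcon
  rw [not_subsingleton_iff_nontrivial] at hcon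
  exact hi ((huniq i hcon).trans (huniq j h2).symm)

/-- Locally, a dualizing complex of a Cohen–Macaulay scheme lives in one degree. -/
theorem exists_open [IsNoetherian Y]
    [∀ (U : Scheme.{u}) (j : U ⟶ Y) [IsOpenImmersion j],
      PreservesFiniteLimits (Scheme.Modules.restrictFunctor j)]
    [∀ (R : CommRingCat.{u}), PreservesFiniteLimits (tilde.functor R)]
    {K : D Y} (hK : Dual2.IsDualizingSch Y K)
    (hcm : ∀ y : Y, LocCoh.IsCohenMacaulayLocalRing (Y.presheaf.stalk y)) (y : Y) :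
    ∃ (U : Y.Opens) (c : ℤ), y ∈ U ∧
      ∀ i : ℤ, i ≠ c → ∀ z ∈ U, Subsingleton ((HD K i).presheaf.stalk z) := by
  have hcoh := Ega1.DualSchBdd.isCohD_of_isDualizingSch hK
  obtain ⟨c, hc, hcu⟩ := ((S1809.result Y K hK).1 y).1 (hcm y)
  have hfin : (irreducibleComponents (Y : Type u)).Finite :=
    TopologicalSpace.NoetherianSpace.finite_irreducibleComponents
  let S : Set (Set Y) := {C | C ∈ irreducibleComponents (Y : Type u) ∧ y ∉ C}
  have hS : S.Finite := hfin.subset fun C hC => hC.1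
  have hcl : IsClosed (⋃₀ S) := by
    rw [Set.sUnion_eq_biUnion]
    exact hS.isClosed_biUnion fun C hC => isClosed_of_mem_irreducibleComponents C hC.1
  refine ⟨⟨(⋃₀ S)ᶜ, hcl.isOpen_compl⟩, c, ?_, ?_⟩
  · rintro ⟨C, hC, hy⟩
    exact hC.2 hy
  · intro i hi z hz
    have hyC : y ∈ irreducibleComponent z := by
      by_contra hcon
      exact hz ⟨irreducibleComponent z,
        ⟨irreducibleComponent_mem_irreducibleComponents z, hcon⟩, mem_irreducibleComponent⟩
    let ξ : Y := (isIrreducible_irreducibleComponent (x := z)).genericPoint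
    have hξ : closure ({ξ} : Set Y) = irreducibleComponent z := by
      rw [(isIrreducible_irreducibleComponent (x := z)).closure_genericPoint]
      exact isClosed_irreducibleComponent
    have h1 : ξ ⤳ z := by
      rw [specializes_iff_mem_closure, hξ]
      exact mem_irreducibleComponent
    have h2 : ξ ⤳ y := by
      rw [specializes_iff_mem_closure, hξ]
      exact hyC
    obtain ⟨j, hj, -⟩ := ((S1809.result Y K hK).1 ξ).1 (hcm ξ)
    have hjc : j = c := hcu j (DualDeg.nontrivial_of_specializes (hcoh j) h2 hj)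
    subst hjc
    obtain ⟨k, -, hku⟩ := ((S1809.result Y K hK).1 z).1 (hcm z)
    by_contra hcon
    rw [not_subsingleton_iff_nontrivial] at hcon
    exact hi ((hku i hcon).trans (hku j (DualDeg.nontrivial_of_specializes (hcoh j) h1 hj)).symm)

section Main

variable (f : X ⟶ Y) [IsProper f] [IsNoetherian Y]
  [∀ (U : Scheme.{u}) (j : U ⟶ Y) [IsOpenImmersion j],
    PreservesFiniteLimits (Scheme.Modules.restrictFunctor j)]
  [∀ (R : CommRingCat.{u}), PreservesFiniteLimits (tilde.functor R)]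
  [HasRpush f] (h : RpushPreservesQCoh f) {a : DQCoh Y ⥤ DQCoh X} (adj : RpushQ f h ⊣ a)

include adj in
/-- **Kempf's criterion with Grauert–Riemenschneider vanishing as hypothesis**, for a dualizing complex `K` on `Y`
that need not be concentrated in one degree. -/
theorem isIso_trace [HasInjectiveResolutions X.Modules]
    (hcmX : ∀ x : X, LocCoh.IsCohenMacaulayLocalRing (X.presheaf.stalk x))
    (hcmY : ∀ y : Y, LocCoh.IsCohenMacaulayLocalRing (Y.presheaf.stalk y))
    (V : Y.Opens) (hV : Dense ((f ⁻¹ᵁ V : X.Opens) : Set X)) [IsIso (f ∣_ V)]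
    (K : DQCoh Y) (hK : Dual2.IsDualizingSch Y K.obj)
    (hGR : ∀ (i : ℤ) (p : ℕ), 0 < p → IsZero ((Coh.Rpush f p).obj (HD (a.obj K).obj i)))
    (hsurj : ∀ i : ℤ,
      Epi ((DerivedCategory.homologyFunctor Y.Modules i).map (adj.counit.app K).hom)) :
    IsIso (adj.counit.app K).hom := by
  have : IsLocallyNoetherian X := LocallyOfFiniteType.isLocallyNoetherian f
  obtain ⟨b, -, hge, -⟩ := Ega1.DualSchBdd.exists_uniform hK
  let L : D X := (a.obj K).obj
  let τ : (Rpush f).obj L ⟶ K.obj := (adj.counit.app K).hom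
  have hL : Dual2.IsDualizingSch X L := S1810.result X Y f h a adj K hK
  have hτ : IsIso ((restrictD V.ι).map τ) := TraceOpen.isIso_restrictD_trace f h adj K b hge V
  have hτi : ∀ i : ℤ, IsIso ((Scheme.Modules.restrictFunctor V.ι).map
      ((DerivedCategory.homologyFunctor Y.Modules i).map τ)) := by
    intro i
    exact (NatIso.isIso_map_iff
      (PerfA.ExactD.mapHomology (Scheme.Modules.restrictFunctor V.ι) i) τ).1
      (inferInstanceAs (IsIso ((DerivedCategory.homologyFunctor _ i).map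
        ((restrictD V.ι).map τ))))
  change IsIso τ
  refine TraceOpen.isIso_of_restrictD τ fun y => ?_
  obtain ⟨U, c, hyU, hU⟩ := exists_open hK hcmY y
  refine ⟨U, U.ι, inferInstance, ⟨y, hyU⟩, rfl, ?_⟩
  have hg : HasRpush (f ∣_ U) := Dcoh.DerSch.hasRpush _
  obtain ⟨β⟩ := Dcoh.DerSch.exists_rpushRestrictIso f (f ∣_ U) (f ⁻¹ᵁ U).ι U.ι
    (isPullback_morphismRestrict f U).flip
  let L' : D (f ⁻¹ᵁ U : Scheme.{u}) := (restrictD (f ⁻¹ᵁ U).ι).obj L
  let K' : D (U : Scheme.{u}) := (restrictD U.ι).obj K.obj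
  let τ' : (Rpush (f ∣_ U)).obj L' ⟶ K' := β.inv.app L ≫ (restrictD U.ι).map τ
  suffices h' : IsIso τ' from IsIso.of_isIso_comp_left (β.inv.app L) _
  have hL' : Dual2.IsDualizingSch (f ⁻¹ᵁ U : Scheme.{u}) L' :=
    Dual.H364.DualUniq.isDualizingSch_restrict _ hL
  -- stalks of `H^i(L)` over `U`
  have hstL : ∀ i : ℤ, i ≠ c → ∀ x : X, f x ∈ U → Subsingleton ((HD L i).presheaf.stalk x) := by
    intro i hi x hx
    refine subsingleton_of_dense hL hcmX (f ⁻¹ᵁ V) hV c x ?_ i hi
    intro i hi ξ hξ hξx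
    have hfU : f ξ ∈ U := (hξx.map f.continuous).mem_open U.2 hx
    obtain ⟨e⟩ := DualDeg.nonempty_stalk_iso f V L i ξ hξ
    have h1 := hU i hi (f ξ) hfU
    have h2 := asIso ((Scheme.Modules.restrictFunctor V.ι).map
      ((DerivedCategory.homologyFunctor Y.Modules i).map τ))
    have h3 := (stalkRestrict V.ι ⟨f ξ, hξ⟩).app (HD ((Rpush f).obj L) i)
    have h4 := (stalkRestrict V.ι ⟨f ξ, hξ⟩).app (HD K.obj i)
    have h5 := (h3.symm ≪≫ (stalkAb _).mapIso h2 ≪≫ h4).addCommGroupIsoToAddEquiv.toEquiv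
    have h6 : Subsingleton ((HD ((Rpush f).obj L) i).presheaf.stalk (f ξ)) :=
      @Equiv.subsingleton _ _ h5 h1
    exact e.symm.toEquiv.subsingleton
  have hL'c : ∀ i : ℤ, i ≠ c → IsZero (HD L' i) := by
    intro i hi
    refine IsZero.of_iso ?_ (HDrestrict (f ⁻¹ᵁ U).ι L i)
    refine Dcoh.StalkMod.isZero_of_subsingleton _ fun x => ?_
    have h1 := hstL i hi x.1 x.2
    have h2 := ((stalkRestrict (f ⁻¹ᵁ U).ι x).app (HD L i)).addCommGroupIsoToAddEquiv.toEquiv
    exact @Equiv.subsingleton _ _ h2 h1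
  have hK'c : ∀ i : ℤ, i ≠ c → IsZero (HD K' i) := by
    intro i hi
    refine IsZero.of_iso ?_ (HDrestrict U.ι K.obj i)
    refine Dcoh.StalkMod.isZero_of_subsingleton _ fun x => ?_
    have h1 := hU i hi x.1 x.2
    have h2 := ((stalkRestrict U.ι x).app (HD K.obj i)).addCommGroupIsoToAddEquiv.toEquiv
    exact @Equiv.subsingleton _ _ h2 h1
  have := PerfC.RpushTrunc.enoughInjectives (f ⁻¹ᵁ U : Scheme.{u})
  have : HasInjectiveResolutions (f ⁻¹ᵁ U : Scheme.{u}).Modules := inferInstance
  -- `H^c(τ')` is `H^c(τ)|_U` up to isomorphisms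
  have hτ'c : (DerivedCategory.homologyFunctor _ c).map τ' =
      (DerivedCategory.homologyFunctor _ c).map (β.inv.app L) ≫
        (DerivedCategory.homologyFunctor _ c).map ((restrictD U.ι).map τ) := Functor.map_comp _ _ _
  let ν := PerfA.ExactD.mapHomology (Scheme.Modules.restrictFunctor U.ι) c
  let θ : HD ((Rpush f).obj L) c ⟶ HD K.obj c := (DerivedCategory.homologyFunctor Y.Modules c).map τ
  have hν : (DerivedCategory.homologyFunctor _ c).map ((restrictD U.ι).map τ) =
      ν.hom.app ((Rpush f).obj L) ≫ (Scheme.Modules.restrictFunctor U.ι).map θ ≫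
        ν.inv.app K.obj := by
    have h1 := ν.hom.naturality τ
    change (DerivedCategory.homologyFunctor _ c).map ((restrictD U.ι).map τ) ≫ _ =
      _ ≫ (Scheme.Modules.restrictFunctor U.ι).map θ at h1
    rw [← Category.assoc, ← h1, Category.assoc, Iso.hom_inv_id_app]
    exact (Category.comp_id _).symm
  refine isIso_of_concentrated (f ∣_ U) hL' c hL'c hK'c τ' (U.ι ⁻¹ᵁ V) ?_ ?_ ?_ ?_
  · have e : ((f ∣_ U) ⁻¹ᵁ (U.ι ⁻¹ᵁ V) : (f ⁻¹ᵁ U : Scheme.{u}).Opens) =
        (f ⁻¹ᵁ U).ι ⁻¹ᵁ (f ⁻¹ᵁ V) := by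
      rw [← Scheme.Hom.comp_preimage, ← Scheme.Hom.comp_preimage, morphismRestrict_ι]
    rw [e]
    exact hV.preimage (f ⁻¹ᵁ U).ι.isOpenEmbedding.isOpenMap
  · -- over `U ∩ V`
    let j : ((U.ι ⁻¹ᵁ V : (U : Scheme.{u}).Opens) : Scheme.{u}) ⟶ Y := (U.ι ⁻¹ᵁ V).ι ≫ U.ι
    have hr : Set.range j ⊆ Set.range V.ι := by
      rintro _ ⟨x, rfl⟩
      rw [Scheme.Opens.range_ι]
      exact x.2
    let k := IsOpenImmersion.lift V.ι j hr
    have hk : k ≫ V.ι = j := IsOpenImmersion.lift_fac _ _ _
    have hki : IsOpenImmersion k := by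
      have : IsOpenImmersion (k ≫ V.ι) := by
        rw [hk]
        infer_instance
      exact IsOpenImmersion.of_comp k V.ι
    have h1 : IsIso ((Scheme.Modules.restrictFunctor k).map
      ((Scheme.Modules.restrictFunctor V.ι).map θ)) := by
      have := hτi c
      exact inferInstanceAs (IsIso ((Scheme.Modules.restrictFunctor k).map
        ((Scheme.Modules.restrictFunctor V.ι).map
          ((DerivedCategory.homologyFunctor Y.Modules c).map τ))))
    have h2 : IsIso ((Scheme.Modules.restrictFunctor (k ≫ V.ι)).map θ) :=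
      (NatIso.isIso_map_iff (Scheme.Modules.restrictFunctorComp k V.ι) θ).2 h1
    have h2' : IsIso ((Scheme.Modules.restrictFunctor j).map θ) :=
      (NatIso.isIso_map_iff (Scheme.Modules.restrictFunctorCongr hk) θ).1 h2
    have h3 : IsIso ((Scheme.Modules.restrictFunctor (U.ι ⁻¹ᵁ V).ι).map
      ((Scheme.Modules.restrictFunctor U.ι).map θ)) :=
      (NatIso.isIso_map_iff (Scheme.Modules.restrictFunctorComp (U.ι ⁻¹ᵁ V).ι U.ι) θ).1 h2'
    rw [hτ'c, hν]
    simp only [Functor.map_comp]
    infer_instance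
  · intro p hp
    refine IsZero.of_iso ?_ ((Coh.Rpush (f ∣_ U) p).mapIso (HDrestrict (f ⁻¹ᵁ U).ι L c))
    refine IsZero.of_iso ?_ (CohqA.RpushLoc.rpushResOpen f U p (HD L c)).symm
    exact Functor.map_isZero (Scheme.Modules.restrictFunctor U.ι) (hGR c p hp)
  · have h1 : Epi θ := hsurj c
    have h2 : Epi ((Scheme.Modules.restrictFunctor U.ι).map θ) := inferInstance
    rw [hτ'c, hν]
    infer_instance

end Main

end K289.GRLocal
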